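import Mathlib
import Groth.Agent.Props12.Stalks

/-! The local ring of a fibre at a section cut out by one non-zero-divisor is a DVR. -/

set_option autoImplicit false

namespace Groth.Agent.SectionLib

open AlgebraicGeometry CategoryTheory CategoryTheory.Limits IsLocalRing

universe u

section Algebra

variable {A B B' : Type u} [CommRing A] [CommRing B] [CommRing B'] [IsLocalRing A] [IsLocalRing B]
  [IsLocalRing B'] (σ : B →+* A) (p : A →+* B') (t : A)
  (hpσ : Function.Bijective (p.comp σ)) (hker : RingHom.ker p = Ideal.span {t})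

include hpσ hker

theorem exists_decomp (a : A) : ∃ (b : B) (d : A), a = σ b + t * d := by
  obtain ⟨b, hb⟩ := hpσ.2 (p a)
  obtain ⟨d, hd⟩ := Ideal.mem_span_singleton'.mp
    (hker ▸ (show a - σ b ∈ RingHom.ker p by
      rw [RingHom.mem_ker, map_sub]; exact sub_eq_zero.mpr hb.symm))
  exact ⟨b, d, by linear_combination -hd⟩

theorem decomp_of_mem_map {a : A} (ha : a ∈ (maximalIdeal B).map σ) :
    ∃ (b : B) (i : A), b ∈ maximalIdeal B ∧ i ∈ (maximalIdeal B).map σ ∧ a = σ b + t * i := by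
  induction ha using Submodule.span_induction with
  | mem x hx =>
    obtain ⟨b, hb, rfl⟩ := hx
    exact ⟨b, 0, hb, zero_mem _, by ring⟩
  | zero => exact ⟨0, 0, zero_mem _, zero_mem _, by simp⟩
  | add x y _ _ hx hy =>
    obtain ⟨b, i, hb, hi, rfl⟩ := hx
    obtain ⟨b', i', hb', hi', rfl⟩ := hy
    exact ⟨b + b', i + i', add_mem hb hb', add_mem hi hi', by rw [map_add]; ring⟩
  | smul r x _ hx =>
    obtain ⟨b, i, hb, hi, rfl⟩ := hx
    obtain ⟨c, d, rfl⟩ := exists_decomp σ p t hpσ hker r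
    refine ⟨c * b, σ b * d + i * (σ c + t * d), Ideal.mul_mem_left _ _ hb, add_mem
      (Ideal.mul_mem_right _ _ (Ideal.mem_map_of_mem σ hb)) (Ideal.mul_mem_right _ _ hi), ?_⟩
    rw [smul_eq_mul, map_mul]; ring

theorem mem_of_mul_mem (ht : t ∈ nonZeroDivisors A) {e : A} (he : t * e ∈ (maximalIdeal B).map σ) :
    e ∈ (maximalIdeal B).map σ := by
  obtain ⟨b, i, -, hi, h⟩ := decomp_of_mem_map σ p t hpσ hker he
  have hb : b = 0 := hpσ.1 <| by
    have hte : p (t * e) = 0 := by
      rw [← RingHom.mem_ker, hker]; exact Ideal.mem_span_singleton'.mpr ⟨e, mul_comm e t⟩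
    have hti : p (t * i) = 0 := by
      rw [← RingHom.mem_ker, hker]; exact Ideal.mem_span_singleton'.mpr ⟨i, mul_comm i t⟩
    have := congrArg p h
    rw [map_add, hte, hti, add_zero] at this
    rw [RingHom.map_zero]; exact this.symm
  rw [hb, map_zero, zero_add] at h
  rwa [(mul_cancel_left_mem_nonZeroDivisors ht).mp h]

theorem isDVR_quotient (ht : t ∈ nonZeroDivisors A) [IsLocalHom σ] {C : Type u} [CommRing C]
    [IsLocalRing C] [IsNoetherianRing C] (ψ : A →+* C) (hψ : Function.Surjective ψ)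
    (hψk : RingHom.ker ψ = (maximalIdeal B).map σ) :
    ∃ _ : IsDomain C, IsDiscreteValuationRing C := by
  have hσm : (maximalIdeal B).map σ ≤ maximalIdeal A :=
    Ideal.map_le_iff_le_comap.mpr fun b hb ↦ map_nonunit σ b hb
  have hne : ∀ n : ℕ, ψ t ^ n ≠ 0 := by
    intro n h
    have h' : t ^ n * 1 ∈ (maximalIdeal B).map σ := by
      rw [mul_one, ← hψk, RingHom.mem_ker, map_pow, h]
    suffices ∀ n : ℕ, ∀ e, t ^ n * e ∈ (maximalIdeal B).map σ → e ∈ (maximalIdeal B).map σ from
      (maximalIdeal.isMaximal A).ne_top ((Ideal.eq_top_iff_one _).mpr (hσm (this n 1 h')))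
    intro n
    induction n with
    | zero => simp
    | succ n ih =>
      intro e he
      rw [pow_succ, mul_assoc] at he
      exact mem_of_mul_mem σ p t hpσ hker ht (ih _ he)
  have hnu : ¬ IsUnit t := fun hu ↦ by
    have : RingHom.ker p = ⊤ := hker.trans (Ideal.span_singleton_eq_top.mpr hu)
    exact RingHom.ker_ne_top p this
  have hloc : IsLocalHom ψ := IsLocalHom.of_surjective ψ hψ
  have hmax : maximalIdeal C = Ideal.span {ψ t} := by
    refine le_antisymm (fun c hc ↦ ?_) ((Ideal.span_singleton_le_iff_mem _).mpr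
      (fun hu ↦ hnu ((isUnit_map_iff ψ t).mp hu)))
    obtain ⟨a, rfl⟩ := hψ c
    obtain ⟨b, d, rfl⟩ := exists_decomp σ p t hpσ hker a
    have hb : b ∈ maximalIdeal B := fun hu ↦ hc <| by
      refine (isUnit_map_iff ψ _).mpr ?_
      have h1 : IsUnit (σ b) := hu.map σ
      by_contra h
      exact (maximalIdeal A).toAddSubmonoid.zero_mem |> fun _ ↦
        ((mem_maximalIdeal _).mp (by
          simpa using sub_mem ((mem_maximalIdeal _).mpr h)
            (Ideal.mul_mem_right d _ ((mem_maximalIdeal _).mpr hnu)))) h1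
    rw [map_add, show ψ (σ b) = 0 by
      rw [← RingHom.mem_ker, hψk]; exact Ideal.mem_map_of_mem σ hb, zero_add, map_mul]
    exact Ideal.mul_mem_right _ _ (Ideal.mem_span_singleton_self _)
  have hfac : ∀ c : C, c ≠ 0 → ∃ (n : ℕ) (u : C), IsUnit u ∧ c = ψ t ^ n * u := by
    intro c hc
    classical
    have hex : ∃ n, c ∉ maximalIdeal C ^ n := by
      by_contra! h
      have : c ∈ (⊥ : Ideal C) := by
        rw [← Ideal.iInf_pow_eq_bot_of_isLocalRing _ (maximalIdeal.isMaximal C).ne_top]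
        exact (Submodule.mem_iInf _).mpr h
      exact hc this
    have hn := Nat.find_spec hex
    have hpos : 0 < Nat.find hex := Nat.pos_of_ne_zero fun h0 ↦ by
      rw [h0] at hn; simp at hn
    have hn' : c ∈ maximalIdeal C ^ (Nat.find hex - 1) :=
      not_not.mp (Nat.find_min hex (Nat.sub_lt hpos one_pos))
    generalize Nat.find hex = k at hn hpos hn' ⊢
    rw [hmax, Ideal.span_singleton_pow, Ideal.mem_span_singleton'] at hn'
    obtain ⟨u, hu⟩ := hn'
    refine ⟨k - 1, u, ?_, by rw [← hu, mul_comm]⟩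
    by_contra hun
    apply hn
    have : u ∈ Ideal.span {ψ t} := hmax ▸ (mem_maximalIdeal u).mpr hun
    rw [hmax, Ideal.span_singleton_pow, show k = k - 1 + 1 by omega, ← hu]
    obtain ⟨w, rfl⟩ := Ideal.mem_span_singleton'.mp this
    exact Ideal.mem_span_singleton'.mpr ⟨w, by ring⟩
  have : NoZeroDivisors C := ⟨fun {a b} hab ↦ by
    by_contra! h
    obtain ⟨n, u, hu, rfl⟩ := hfac a h.1
    obtain ⟨m, v, hv, rfl⟩ := hfac b h.2
    refine hne (n + m) ((hu.mul hv).mul_left_eq_zero.mp ?_)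
    rw [← hab]; ring⟩
  have hdom : IsDomain C := NoZeroDivisors.to_isDomain C
  have key : ¬ IsField C → (IsDiscreteValuationRing C ↔ (maximalIdeal C).IsPrincipal) :=
    fun h ↦ (IsDiscreteValuationRing.TFAE C h).out 0 4
  refine ⟨hdom, (key ?_).mpr ⟨⟨ψ t, hmax⟩⟩⟩
  rw [isField_iff_maximalIdeal_eq, hmax, Ideal.span_singleton_eq_bot]
  simpa using hne 1

end Algebra

/-- The kernel on stalks of a closed immersion which is principal on an affine open. -/
theorem ker_stalkMap_of_ideal_eq {X V : Scheme.{u}} (j : X ⟶ V) [IsClosedImmersion j] (x : X)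
    (U : V.affineOpens) (hx : j x ∈ U.1) (f : Γ(V, U.1)) (hf : f ∈ nonZeroDivisors Γ(V, U.1))
    (hJ : j.ker.ideal U = Ideal.span {f}) :
    RingHom.ker (j.stalkMap x).hom = Ideal.span {V.presheaf.germ U.1 (j x) hx f} ∧
      V.presheaf.germ U.1 (j x) hx f ∈ nonZeroDivisors (V.presheaf.stalk (j x)) := by
  have hU : IsAffineOpen U.1 := U.2
  let := V.presheaf.algebra_section_stalk ⟨j x, hx⟩
  have hlocV : IsLocalization.AtPrime (V.presheaf.stalk (j x)) (hU.primeIdealOf ⟨j x, hx⟩).asIdeal :=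
    hU.isLocalization_stalk ⟨j x, hx⟩
  have hW : IsAffineOpen (j ⁻¹ᵁ U.1) := hU.preimage j
  have hx' : x ∈ j ⁻¹ᵁ U.1 := hx
  let := X.presheaf.algebra_section_stalk ⟨x, hx'⟩
  have hlocX : IsLocalization.AtPrime (X.presheaf.stalk x)
      (hW.primeIdealOf ⟨x, hx'⟩).asIdeal := hW.isLocalization_stalk ⟨x, hx'⟩
  have hkerapp : RingHom.ker (j.app U.1).hom = Ideal.span {f} := by
    rw [← Scheme.Hom.ker_apply]; exact hJ
  refine ⟨le_antisymm (fun a ha ↦ ?_) ?_, ?_⟩
  · obtain ⟨b, s, rfl⟩ := IsLocalization.exists_mk'_eq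
      (hU.primeIdealOf ⟨j x, hx⟩).asIdeal.primeCompl a
    have h0 : (j.stalkMap x).hom (V.presheaf.germ U.1 (j x) hx b) = 0 := by
      have h1 : algebraMap Γ(V, U.1) (V.presheaf.stalk (j x)) b =
          IsLocalization.mk' _ b s * algebraMap _ _ (s : Γ(V, U.1)) :=
        (IsLocalization.mk'_spec _ b s).symm
      rw [show V.presheaf.germ U.1 (j x) hx b = algebraMap Γ(V, U.1) _ b from rfl, h1, map_mul,
        RingHom.mem_ker.mp ha, zero_mul]
    rw [show (j.stalkMap x).hom (V.presheaf.germ U.1 (j x) hx b) =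
      X.presheaf.germ (j ⁻¹ᵁ U.1) x hx (j.app U.1 b) from
        Scheme.Hom.germ_stalkMap_apply j U.1 x hx b] at h0
    obtain ⟨⟨c, hc⟩, hcb⟩ := (IsLocalization.map_eq_zero_iff
      (hW.primeIdealOf ⟨x, hx'⟩).asIdeal.primeCompl (X.presheaf.stalk x) _).mp h0
    obtain ⟨c', hc'⟩ := j.app_surjective U.1 hU c
    have hc'u : IsUnit (V.presheaf.germ U.1 (j x) hx c') := by
      refine (isUnit_map_iff (j.stalkMap x).hom _).mp ?_
      rw [show (j.stalkMap x).hom (V.presheaf.germ U.1 (j x) hx c') =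
        X.presheaf.germ (j ⁻¹ᵁ U.1) x hx c by
          rw [← hc']; exact Scheme.Hom.germ_stalkMap_apply j U.1 x hx c']
      exact IsLocalization.map_units (X.presheaf.stalk x)
        (⟨c, hc⟩ : (hW.primeIdealOf ⟨x, hx'⟩).asIdeal.primeCompl)
    have hmem : c' * b ∈ Ideal.span {f} := by
      rw [← hkerapp, RingHom.mem_ker, map_mul]
      exact (congrArg (· * j.app U.1 b) hc').trans hcb
    obtain ⟨d, hd⟩ := Ideal.mem_span_singleton'.mp hmem
    rw [IsLocalization.mk'_mem_iff]
    refine (Ideal.unit_mul_mem_iff_mem _ hc'u).mp ?_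
    refine Ideal.mem_span_singleton'.mpr ⟨V.presheaf.germ U.1 (j x) hx d, ?_⟩
    rw [← map_mul, hd, map_mul]
    rfl
  · rw [Ideal.span_singleton_le_iff_mem, RingHom.mem_ker]
    rw [show (j.stalkMap x).hom (V.presheaf.germ U.1 (j x) hx f) =
      X.presheaf.germ (j ⁻¹ᵁ U.1) x hx (j.app U.1 f) from
        Scheme.Hom.germ_stalkMap_apply j U.1 x hx f]
    have : (j.app U.1).hom f = 0 := by
      rw [← RingHom.mem_ker, hkerapp]; exact Ideal.mem_span_singleton_self f
    rw [this, map_zero]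
  · exact IsLocalization.map_nonZeroDivisors_le (hU.primeIdealOf ⟨j x, hx⟩).asIdeal.primeCompl
      (V.presheaf.stalk (j x)) ⟨f, hf, rfl⟩

/-- The fibre stalk is a quotient of the stalk of the total space. -/
theorem exists_fibre_quotient {V S : Scheme.{u}} (π : V ⟶ S) (v : V) :
    ∃ ψ : V.presheaf.stalk v →+* (π.fiber (π v)).presheaf.stalk (π.asFiber v),
      Function.Surjective ψ ∧
        RingHom.ker ψ = (maximalIdeal (S.presheaf.stalk (π v))).map (π.stalkMap v).hom := by
  have key : ∀ (s : S) (y : π.fiber s) (v : V), π.fiberι s y = v →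
      ∃ ψ : V.presheaf.stalk v →+* (π.fiber s).presheaf.stalk y,
        Function.Surjective ψ ∧
          RingHom.ker ψ = (maximalIdeal (S.presheaf.stalk (π v))).map (π.stalkMap v).hom := by
    rintro s y v rfl
    exact ⟨_, Groth.Agent.Props12.stalkMap_fiberι π s y⟩
  exact key _ _ v (π.fiberι_asFiber v)

end Groth.Agent.SectionLib
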